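import Cfsg.Agent.H40.OC.Cor_m3
import Cfsg.Agent.H379.GG.PGL_m3
import Cfsg.Agent.H274.EP.Key
import Cfsg.Agent.FastGrp
import Cfsg.Agent.Prune
set_option linter.all false
prune_inst 0x7f00000000000000000000000000000000000000000000000000000000000000000000000000000000000000000000000000000000000000000000000000000000000000000000000000000000000000003fffffffffffffffffffffffffffbeffbdffffffff
open scoped Cfsg.Agent.FastGrp

/-!
# S4884, helper148: `Adj T X F` from parametrised simple root groups; the hypotheses of `H40.OC.exists_block`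

* `Par T X F` : parametrisations `y i : F i → X (sr i)`, `T` acts by scalars, transitively; `Par.adj : Adj T X F`;
* `comm_all` : an element of `T` which centralises the simple root groups is central (`T` commutative);
* `faithful` : hypothesis `hT` of `exists_block` if the centre is trivial;
* `lin_of_commGen` : hypothesis `hN` of `exists_block` from `CommGen`.
-/

set_option autoImplicit false
set_option linter.unusedSectionVars false

open Cfsg

namespace Cfsg.Agent.H148.GG

open CoxeterSystem Cfsg.Agent.ChevalleyStructure.CoxeterGeom Cfsg.Agent.Tits.Roots Cfsg.Agent.Tits.Core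
  Cfsg.Agent.Tits.Exchange Cfsg.Agent.Nodes.Reps Cfsg.Agent.Nodes.BNOf Cfsg.Agent.Nodes.StabComb
  Cfsg.Agent.Nodes.Bruhat Cfsg.Agent.Nodes.OppDec Cfsg.Agent.Nodes.LeviDec Cfsg.Agent.H53.HC

section Par

variable {I Y : Type*} [DecidableEq I] [Group Y]

/-- parametrised simple root groups -/
structure Par (T : Subgroup Y) (X : (I → ℤ) → Subgroup Y) (F : I → Type*) [∀ i, Field (F i)] where
  y : ∀ i, Multiplicative (F i) →* Y
  inj : ∀ i, Function.Injective (y i)
  range : ∀ i, (y i).range = X (sr i)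
  act : ∀ i, ∀ t ∈ T, ∃ c : (F i)ˣ, ∀ s : F i, t * y i (Multiplicative.ofAdd s) * t⁻¹ =
    y i (Multiplicative.ofAdd ((c : F i) * s))
  surj : ∀ c : ∀ i, (F i)ˣ, ∃ t ∈ T, ∀ (i : I) (s : F i), t * y i (Multiplicative.ofAdd s) * t⁻¹ =
    y i (Multiplicative.ofAdd ((c i : F i) * s))

namespace Par

variable {T : Subgroup Y} {X : (I → ℤ) → Subgroup Y} {F : I → Type*} [∀ i, Field (F i)] (P : Par T X F)

/-- the parametrisation as an isomorphism -/
noncomputable def e (i : I) : Multiplicative (F i) ≃* ↥(X (sr i)) :=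
  (MonoidHom.ofInjective (P.inj i)).trans (MulEquiv.subgroupCongr (P.range i))

theorem coe_e (i : I) (s : Multiplicative (F i)) : ((P.e i s : ↥(X (sr i))) : Y) = P.y i s := rfl

theorem uniq (i : I) {t : Y} {c c' : (F i)ˣ}
    (h1 : ∀ s : F i, t * P.y i (Multiplicative.ofAdd s) * t⁻¹ = P.y i (Multiplicative.ofAdd ((c : F i) * s)))
    (h2 : ∀ s : F i, t * P.y i (Multiplicative.ofAdd s) * t⁻¹ = P.y i (Multiplicative.ofAdd ((c' : F i) * s))) :
    c = c' := by
  have h3 := P.inj i ((h1 1).symm.trans (h2 1))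
  rw [mul_one, mul_one] at h3
  exact Units.ext (Multiplicative.ofAdd.injective h3)

/-- the scalars -/
noncomputable def sc (i : I) (t : ↥T) : (F i)ˣ := (P.act i t t.2).choose

theorem sc_spec (i : I) (t : ↥T) (s : F i) : (t : Y) * P.y i (Multiplicative.ofAdd s) * (t : Y)⁻¹ =
    P.y i (Multiplicative.ofAdd ((P.sc i t : F i) * s)) := (P.act i t t.2).choose_spec s

/-- the scalars as a homomorphism -/
noncomputable def a (i : I) : ↥T →* (F i)ˣ where
  toFun := P.sc i
  map_one' := P.uniq i (t := (1 : ↥T)) (P.sc_spec i 1) fun s => by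
    rw [Subgroup.coe_one, one_mul, inv_one, mul_one, Units.val_one, one_mul]
  map_mul' t t' := P.uniq i (t := ((t * t' : ↥T) : Y)) (P.sc_spec i (t * t')) fun s => by
    have e1 : ((t * t' : ↥T) : Y) * P.y i (Multiplicative.ofAdd s) * ((t * t' : ↥T) : Y)⁻¹ =
        (t : Y) * ((t' : Y) * P.y i (Multiplicative.ofAdd s) * (t' : Y)⁻¹) * (t : Y)⁻¹ := by
      rw [Subgroup.coe_mul]; group
    rw [e1, P.sc_spec i t', P.sc_spec i t, Units.val_mul, mul_assoc]

theorem a_spec (i : I) (t : ↥T) (s : F i) : (t : Y) * P.y i (Multiplicative.ofAdd s) * (t : Y)⁻¹ =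
    P.y i (Multiplicative.ofAdd ((P.a i t : F i) * s)) := P.sc_spec i t s

/-- **the structure `Adj`** -/
noncomputable def adj : Adj T X F where
  x i := (P.e i).symm.toMonoidHom
  a := P.a
  surjX i := (P.e i).symm.surjective
  act i t u hu := by
    obtain ⟨s, rfl⟩ := (P.e i).surjective u
    have h1 : (⟨(t : Y) * ((P.e i s : ↥(X (sr i))) : Y) * (t : Y)⁻¹, hu⟩ : ↥(X (sr i))) =
        P.e i (Multiplicative.ofAdd ((P.a i t : F i) * Multiplicative.toAdd s)) := by
      apply Subtype.ext
      exact P.a_spec i t (Multiplicative.toAdd s)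
    rw [h1]
    change Multiplicative.toAdd ((P.e i).symm _) = _ * Multiplicative.toAdd ((P.e i).symm _)
    rw [MulEquiv.symm_apply_apply, MulEquiv.symm_apply_apply]
    rfl
  lin i ψ u hu := by
    have h1 : u = 1 := (P.e i).symm.injective (by rw [map_one]; exact hu)
    rw [h1, map_one]
  surjT c := by
    obtain ⟨t, ht, h1⟩ := P.surj c
    exact ⟨⟨t, ht⟩, fun i => P.uniq i (t := t) (P.a_spec i ⟨t, ht⟩) (h1 i)⟩
  ker i t ht u hu := by
    obtain ⟨s, hs⟩ := (P.e i).surjective ⟨u, hu⟩
    have h1 : u = P.y i s := by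
      rw [← coe_e, hs]
    have h2 := P.a_spec i t (Multiplicative.toAdd s)
    rw [ht, Units.val_one, one_mul] at h2
    change (t : Y) * P.y i s * (t : Y)⁻¹ = P.y i s at h2
    rw [h1]
    exact mul_inv_eq_iff_eq_mul.1 h2

end Par

end Par

variable {I W Y : Type*} [Fintype I] [DecidableEq I] [Group W] [Group Y] {M : CoxeterMatrix I}
  {cs : CoxeterSystem M W} {A : I → I → ℤ} {h : IsCartan M A} {p : ℕ} {T : Subgroup Y} {n : I → Y}
  {X : (I → ℤ) → Subgroup Y}

/-- **an element of `T` which centralises the simple root groups is central** -/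
theorem comm_all [Finite W] (R : RGD cs h p T n X) (hG : GG cs h T X = ⊤) (hT : ∀ s ∈ T, ∀ t ∈ T, s * t = t * s)
    {z : Y} (hz : z ∈ T) (hc : ∀ i, ∀ u ∈ X (sr i), z * u = u * z) (y : Y) : z * y = y * z := by
  have h1 : (⊤ : Subgroup Y) ≤ Subgroup.centralizer {z} := by
    rw [← hG]
    refine sup_le (fun t ht => ?_) (RGD.Sup_le fun x hx u hu => ?_)
    · rw [Subgroup.mem_centralizer_singleton_iff]
      exact hT t ht z hz
    · obtain ⟨w, i, rfl⟩ := hx
      obtain ⟨k, hk⟩ := exists_rp cs R.nsys w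
      have h2 : k⁻¹ * u * k ∈ X (sr i) := by
        have := R.conj_mem' hk ((isRoot_sr cs h i).act w) hu
        rwa [rep_inv_apply] at this
      have h3 : z * k = k * z := comm_rp R hz hT (K := Set.univ) (fun i _ => hc i) (mem_univ' cs w) hk
      have h4 := hc i _ h2
      have h5 : z * k⁻¹ = k⁻¹ * z := by
        rw [mul_inv_eq_iff_eq_mul, mul_assoc, h3, inv_mul_cancel_left]
      rw [Subgroup.mem_centralizer_singleton_iff]
      have e : u = k * (k⁻¹ * u * k) * k⁻¹ := by group
      rw [e]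
      calc k * (k⁻¹ * u * k) * k⁻¹ * z = k * (k⁻¹ * u * k) * (k⁻¹ * z) := by group
        _ = k * (k⁻¹ * u * k) * (z * k⁻¹) := by rw [h5]
        _ = k * ((k⁻¹ * u * k) * z) * k⁻¹ := by group
        _ = k * (z * (k⁻¹ * u * k)) * k⁻¹ := by rw [h4]
        _ = (k * z) * (k⁻¹ * u * k) * k⁻¹ := by group
        _ = (z * k) * (k⁻¹ * u * k) * k⁻¹ := by rw [h3]
        _ = _ := by group
  exact (Subgroup.mem_centralizer_singleton_iff.1 (h1 (Subgroup.mem_top y))).symm

/-- **hypothesis `hT` of `H40.OC.exists_block`** -/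
theorem faithful [Finite W] (R : RGD cs h p T n X) (hG : GG cs h T X = ⊤) (hT : ∀ s ∈ T, ∀ t ∈ T, s * t = t * s)
    (hZ : Subgroup.center Y = ⊥) {F : I → Type*} [∀ i, Field (F i)] (D : Adj T X F) (t : ↥T)
    (ht : ∀ i, D.a i t = 1) : t = 1 := by
  have h1 : (t : Y) ∈ Subgroup.center Y := by
    rw [Subgroup.mem_center_iff]
    intro y
    exact (comm_all R hG hT t.2 (fun i u hu => D.ker i t (ht i) u hu) y).symm
  rw [hZ, Subgroup.mem_bot] at h1
  exact Subtype.ext h1

open Cfsg.Agent.H40.OC Cfsg.Agent.Omega.EH3.Kf.Lev in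
/-- **hypothesis `hN` of `H40.OC.exists_block`** -/
theorem lin_of_commGen [Finite W] (R : RGD cs h p T n X) (hC : CommGen cs h X) {F : I → Type*} [∀ i, Field (F i)]
    (D : Adj T X F) (f : ↥(UU cs h X) →* ℂˣ) (u : ↥(UU cs h X)) (hu : ∀ i, co R D i u = 1) : f u = 1 := by
  classical
  let g : ↥(UU cs h X) →* ℂˣ :=
    { toFun := fun v => ∏ i, f (Subgroup.inclusion (X_le_UU i) (cor R i v))
      map_one' := by simp
      map_mul' := fun a b => by simp [Finset.prod_mul_distrib] }
  have hfg : f = g := by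
    let K : Subgroup ↥(UU cs h X) := f.eqLocus g
    have hK : ∀ x ∈ RGD.Pos cs h, ∀ (v : Y) (hv : v ∈ X x) (hv' : v ∈ UU cs h X), (⟨v, hv'⟩ : ↥(UU cs h X)) ∈ K := by
      intro x hx v hv hv'
      change f ⟨v, hv'⟩ = g ⟨v, hv'⟩
      by_cases hxs : ∃ i, x = sr i
      · obtain ⟨i, rfl⟩ := hxs
        change _ = ∏ j, f (Subgroup.inclusion (X_le_UU j) (cor R j ⟨v, hv'⟩))
        rw [Finset.prod_eq_single i]
        · rw [cor_X R i hv hv']
          rfl
        · intro j _ hj
          rw [cor_ne R hj hv hv', map_one, map_one]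
        · intro h
          exact absurd (Finset.mem_univ i) h
      · push Not at hxs
        rw [H274.EP.triv_of_nonsimple hC f hx.1 hx.2 hxs (u := ⟨v, hv'⟩) hv]
        symm
        exact H274.EP.triv_of_nonsimple hC g hx.1 hx.2 hxs (u := ⟨v, hv'⟩) hv
    have h1 : UU cs h X ≤ K.map (UU cs h X).subtype := by
      refine RGD.Sup_le fun x hx v hv => ?_
      have hv' : v ∈ UU cs h X := RGD.le_Sup hx hv
      exact ⟨⟨v, hv'⟩, hK x hx v hv hv', rfl⟩
    ext v
    obtain ⟨v', hv', e⟩ := h1 v.2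
    have e' : v' = v := Subtype.ext e
    rw [← e']
    exact congrArg Units.val hv'
  rw [hfg]
  change ∏ i, f (Subgroup.inclusion (X_le_UU i) (cor R i u)) = 1
  refine Finset.prod_eq_one fun i _ => ?_
  exact D.lin i (f.comp (Subgroup.inclusion (X_le_UU i))) (cor R i u) (hu i)

end Cfsg.Agent.H148.GG
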